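import Cfsg.Agent.Lib.H22.J2U3.Chk

set_option autoImplicit false
set_option maxRecDepth 100000

/-! # The point stabiliser of the Hall–Janko group is `PSU(3,3)`

The stabiliser `Hs` of the point `0` in helper17's presented group acts faithfully on its suborbit
of length 63; after relabelling the 63 points the image is the group generated by the unitary
transvections of helper14's model of `PSU(3,3)` on the 63 non-isotropic points. -/

namespace Cfsg.Agent.Lib.H22.J2U3

open Cfsg.Agent.Lib.H17.CosetCert Cfsg.Agent.Lib.H17.J2P100 Cfsg.Agent.Lib.H17.J2PGlue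
  Cfsg.Agent.Lib.H17.J2Deg100 Cfsg.Agent.Lib.H22.J2Spec Cfsg.Agent.Lib.H22.J2Out
open Cfsg.Agent.Lib.H14 Cfsg.Agent.Lib.H14.U3Tab Cfsg.Agent.Lib.H14.G2Tab
  Cfsg.Agent.Lib.H14.G2U3Main Cfsg.Agent.Lib.H14.U3A Cfsg.Agent.Lib.H14.U3B
  Cfsg.Agent.Lib.H14.G2A

/-- the action of the presented group on the 100 points -/
@[reducible] noncomputable def actG : MulAction G (Fin 100) := MulAction.compHom (Fin 100) φ

attribute [local instance] actG

theorem smul_eq (g : G) (x : Fin 100) : g • x = φ g x := rfl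

/-- the point stabiliser -/
noncomputable abbrev Hs : Subgroup G := MulAction.stabilizer G z

theorem mem_Hs {g : G} : g ∈ Hs ↔ φ g z = z := Iff.rfl

theorem hz0 : ((z : Fin 100) : ℕ) = 0 := rfl

theorem Hs_cover (h : G) (hh : h ∈ Hs) : ∃ j < 36, ∃ m < 168, h = el (Uw j) * el (Kw m) :=
  stab_cover h (mem_Hs.mp hh)

theorem U_mem (j : ℕ) (hj : j < 36) : el (Uw j) ∈ Hs := by
  rw [mem_Hs]
  apply Fin.ext
  rw [(rep_U j hj).1.apply_single, hz0]
  exact (rep_U j hj).2

theorem K_mem (m : ℕ) (hm : m < 168) : el (Kw m) ∈ Hs := by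
  rw [mem_Hs]
  apply Fin.ext
  rw [(rep_K m hm).1.apply_single, hz0]
  exact (rep_K m hm).2.1

theorem rep_UK (j m : ℕ) (hj : j < 36) (hm : m < 168) :
    Rep (el (Uw j) * el (Kw m)) [Kt m, Ut j] :=
  (rep_U j hj).1.mul (rep_K m hm).1

/-! ### the 63 points -/

theorem ptN_lt (i : ℕ) (hi : i < 63) : ptN i < 100 := by
  have h := List.all_eq_true.mp pt_ix i (List.mem_range.mpr hi)
  rw [Bool.and_eq_true] at h
  exact Nat.blt_eq.mp h.1

theorem ixN_ptN (i : ℕ) (hi : i < 63) : ixN (ptN i) = i := by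
  have h := List.all_eq_true.mp pt_ix i (List.mem_range.mpr hi)
  rw [Bool.and_eq_true] at h
  exact Nat.eq_of_beq_eq_true h.2

/-- point `i` of the suborbit -/
def pt (i : Fin 63) : Fin 100 := ⟨ptN i.val, ptN_lt i.val i.2⟩

theorem pt_injective : Function.Injective pt := by
  intro a b hab
  have h : ptN a.val = ptN b.val := congrArg Fin.val hab
  apply Fin.ext
  rw [← ixN_ptN a.val a.2, ← ixN_ptN b.val b.2, h]

theorem clos_step (T : ℕ) (hT : closChk T = true) (i : ℕ) (hi : i < 63) :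
    ixN (lk 7 128 T (ptN i)) < 63 ∧ ptN (ixN (lk 7 128 T (ptN i))) = lk 7 128 T (ptN i) := by
  have h := List.all_eq_true.mp hT i (List.mem_range.mpr hi)
  rw [Bool.and_eq_true] at h
  exact ⟨Nat.blt_eq.mp h.1, Nat.eq_of_beq_eq_true h.2⟩

theorem closU_j (j : ℕ) (hj : j < 36) : closChk (Ut j) = true :=
  List.all_eq_true.mp closU _ (mem_getD Ul j _ (by rw [Ul_length]; exact hj))

theorem closK_m (m : ℕ) (hm : m < 168) : closChk (Kt m) = true :=
  List.all_eq_true.mp closK _ (mem_getD Kl m _ (by rw [Kl_length]; exact hm))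

/-- the stabiliser maps the 63 points to themselves -/
theorem Hs_closed (h : G) (hh : h ∈ Hs) (i : Fin 63) : ∃ i' : Fin 63, φ h (pt i) = pt i' := by
  obtain ⟨j, hj, m, hm, rfl⟩ := Hs_cover h hh
  have hr := rep_UK j m hj hm
  obtain ⟨h1, h2⟩ := clos_step (Kt m) (closK_m m hm) i.val i.2
  obtain ⟨h3, h4⟩ := clos_step (Ut j) (closU_j j hj) _ h1
  refine ⟨⟨_, h3⟩, Fin.ext ?_⟩
  rw [hr (pt i), applyT_cons, applyT_cons, applyT_nil]
  show lk 7 128 (Ut j) (lk 7 128 (Kt m) (ptN i.val)) = ptN _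
  rw [h4, h2]

/-- the action on the indices -/
noncomputable def act (h : G) (i : Fin 63) : Fin 63 := Fin.ofNat 63 (ixN (φ h (pt i)).val)

theorem ofNat_val (i : Fin 63) : Fin.ofNat 63 i.val = i := by
  apply Fin.ext
  show i.val % 63 = i.val
  exact Nat.mod_eq_of_lt i.2

theorem pt_act (h : G) (hh : h ∈ Hs) (i : Fin 63) : pt (act h i) = φ h (pt i) := by
  obtain ⟨i', hi'⟩ := Hs_closed h hh i
  unfold act
  rw [hi']
  show pt (Fin.ofNat 63 (ixN (ptN i'.val))) = pt i'
  rw [ixN_ptN i'.val i'.2, ofNat_val]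

noncomputable instance actHs : MulAction Hs (Fin 63) where
  smul h i := act h.1 i
  one_smul i := by
    apply pt_injective
    show pt (act (1 : Hs).1 i) = pt i
    rw [pt_act _ (1 : Hs).2]
    show φ 1 (pt i) = pt i
    rw [map_one]
    rfl
  mul_smul a b i := by
    apply pt_injective
    show pt (act (a * b).1 i) = pt (act a.1 (act b.1 i))
    rw [pt_act _ (a * b).2, pt_act _ a.2, pt_act _ b.2]
    show φ (a.1 * b.1) (pt i) = _
    rw [map_mul]
    rfl

/-- the permutation representation of the stabiliser on the 63 points -/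
noncomputable def Θ : Hs →* Equiv.Perm (Fin 63) := MulAction.toPermHom Hs (Fin 63)

theorem Θ_apply (h : Hs) (i : Fin 63) : Θ h i = act h.1 i := rfl

theorem act_eq_of_chk {h : G} {ts : List ℕ} (hr : Rep h ts) (W : List (Fin 12))
    (hc : actChk ts W = true) (i : Fin 63) : act h i = wp W i := by
  have h1 := List.all_eq_true.mp hc i.val (List.mem_range.mpr i.2)
  have h2 := Nat.eq_of_beq_eq_true h1
  rw [ofNat_val] at h2
  unfold act
  rw [hr (pt i)]
  show Fin.ofNat 63 (ixN (applyT 7 128 ts (ptN i.val))) = wp W i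
  rw [h2, ofNat_val]

/-! ### the transvection group -/

theorem e02_tr : (F9.e02 : F9) + F9.e02 ^ 3 = 0 := by decide

theorem wel_append (a b : List (Fin 12)) : wel (a ++ b) = wel a * wel b := by
  simp [wel]

theorem wd_e01 (k : Fin 28) : wd k F9.e01 = wdA k := by
  unfold wd
  rw [if_pos rfl]

theorem wd_e02 (k : Fin 28) : wd k F9.e02 = wdB k := by
  unfold wd
  rw [if_neg (by decide), if_pos rfl]

theorem wd_e00 (k : Fin 28) : wd k F9.e00 = [] := by
  unfold wd
  rw [if_neg (by decide), if_neg (by decide)]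

theorem rhoG_flat_mem (bl : List (Fin 28 × Bool)) :
    rhoG (wel (flat bl)) ∈ Subgroup.closure TauSet := by
  induction bl with
  | nil =>
    have : wel (flat []) = 1 := by simp [flat, wel]
    rw [this, map_one]
    exact Subgroup.one_mem _
  | cons b bl ih =>
    have e : flat (b :: bl) = cond b.2 (wdB b.1) (wdA b.1) ++ flat bl := by
      simp [flat]
    rw [e, wel_append, map_mul]
    refine Subgroup.mul_mem _ (Subgroup.subset_closure ?_) ih
    rcases hb : b.2 with _ | _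
    · rw [cond_false]
      exact ⟨b.1, F9.e01, e01_tr, by unfold tau; rw [wd_e01]⟩
    · rw [cond_true]
      exact ⟨b.1, F9.e02, e02_tr, by unfold tau; rw [wd_e02]⟩

theorem Θ_eq_rhoG {h : Hs} {ts : List ℕ} (hr : Rep h.1 ts) (W : List (Fin 12))
    (hc : actChk ts W = true) : Θ h = rhoG (wel W) := by
  refine Equiv.Perm.ext fun i => ?_
  rw [Θ_apply, rhoG_wel, act_eq_of_chk hr W hc]

theorem UB_chk (j : ℕ) (hj : j < 36) : actChk [Ut j] (flat (UB.getD j [])) = true :=
  List.all_eq_true.mp certU j (List.mem_range.mpr hj)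

theorem KB_chk (m : ℕ) (hm : m < 168) : actChk [Kt m] (flat (KB.getD m [])) = true :=
  List.all_eq_true.mp certK m (List.mem_range.mpr hm)

theorem Θ_range_le : Θ.range ≤ Subgroup.closure TauSet := by
  rintro _ ⟨h, rfl⟩
  obtain ⟨j, hj, m, hm, hjm⟩ := Hs_cover h.1 h.2
  have e : h = ⟨el (Uw j), U_mem j hj⟩ * ⟨el (Kw m), K_mem m hm⟩ := Subtype.ext hjm
  rw [e, map_mul]
  apply Subgroup.mul_mem
  · rw [Θ_eq_rhoG (h := ⟨el (Uw j), U_mem j hj⟩) (rep_U j hj).1 _ (UB_chk j hj)]
    exact rhoG_flat_mem _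
  · rw [Θ_eq_rhoG (h := ⟨el (Kw m), K_mem m hm⟩) (rep_K m hm).1 _ (KB_chk m hm)]
    exact rhoG_flat_mem _

theorem ofNat28_val (k : Fin 28) : Fin.ofNat 28 k.val = k := by
  apply Fin.ext
  show k.val % 28 = k.val
  exact Nat.mod_eq_of_lt k.2

theorem le_Θ_range : Subgroup.closure TauSet ≤ Θ.range := by
  rw [Subgroup.closure_le]
  rintro _ ⟨k, c, hc, rfl⟩
  have hlt := List.all_eq_true.mp tau_jm_lt k.val (List.mem_range.mpr k.2)
  rw [Bool.and_eq_true, Bool.and_eq_true, Bool.and_eq_true] at hlt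
  obtain ⟨hA1, hA2, hB1, hB2⟩ := hlt
  have hA1' := Nat.blt_eq.mp hA1
  have hA2' := Nat.blt_eq.mp hA2
  have hB1' := Nat.blt_eq.mp hB1
  have hB2' := Nat.blt_eq.mp hB2
  have key : ∀ (j m : ℕ) (hj : j < 36) (hm : m < 168) (W : List (Fin 12)),
      actChk [Kt m, Ut j] W = true → rhoG (wel W) ∈ Θ.range := by
    intro j m hj hm W hW
    refine ⟨⟨el (Uw j) * el (Kw m), Hs.mul_mem (U_mem j hj) (K_mem m hm)⟩, ?_⟩
    exact Θ_eq_rhoG (h := ⟨el (Uw j) * el (Kw m), Hs.mul_mem (U_mem j hj) (K_mem m hm)⟩)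
      (rep_UK j m hj hm) W hW
  cases c
  · -- e00
    rw [SetLike.mem_coe]
    unfold tau
    rw [wd_e00]
    have : wel ([] : List (Fin 12)) = 1 := by simp [wel]
    rw [this, map_one]
    exact Subgroup.one_mem _
  · exact absurd hc (by decide)
  · exact absurd hc (by decide)
  · -- e01
    rw [SetLike.mem_coe]
    unfold tau
    rw [wd_e01]
    have h := List.all_eq_true.mp tauA_chk k.val (List.mem_range.mpr k.2)
    rw [ofNat28_val] at h
    exact key _ _ hA1' hA2' _ h
  · exact absurd hc (by decide)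
  · exact absurd hc (by decide)
  · -- e02
    rw [SetLike.mem_coe]
    unfold tau
    rw [wd_e02]
    have h := List.all_eq_true.mp tauB_chk k.val (List.mem_range.mpr k.2)
    rw [ofNat28_val] at h
    exact key _ _ hB1' hB2' _ h
  · exact absurd hc (by decide)
  · exact absurd hc (by decide)

theorem Θ_range : Θ.range = rhoU.range := by
  rw [range_rhoU]
  exact le_antisymm Θ_range_le le_Θ_range

theorem baseI_mem_lt (i : ℕ) (hi : i ∈ baseI) : i < 63 :=
  Nat.blt_eq.mp (List.all_eq_true.mp baseI_lt i hi)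

theorem Θ_injective : Function.Injective Θ := by
  rw [injective_iff_map_eq_one]
  intro h hh
  obtain ⟨j, hj, m, hm, hjm⟩ := Hs_cover h.1 h.2
  have hr : Rep h.1 [Kt m, Ut j] := by
    rw [hjm]
    exact rep_UK j m hj hm
  have hfix : fixB [Kt m, Ut j] = true := by
    unfold fixB
    rw [List.all_eq_true]
    intro i hi
    have hi63 := baseI_mem_lt i hi
    have h1 : Θ h ⟨i, hi63⟩ = ⟨i, hi63⟩ := by rw [hh]; rfl
    rw [Θ_apply] at h1
    have h2 := pt_act h.1 h.2 ⟨i, hi63⟩
    rw [h1] at h2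
    have h3 := congrArg Fin.val h2
    rw [hr (pt ⟨i, hi63⟩)] at h3
    exact beq_of_eq h3.symm
  have hmU : Ul.getD j (0, []) ∈ Ul := mem_getD _ _ _ (by rw [Ul_length]; exact hj)
  have hmK : Kl.getD m (0, []) ∈ Kl := mem_getD _ _ _ (by rw [Kl_length]; exact hm)
  have hc := List.all_eq_true.mp (List.all_eq_true.mp base_chk _ hmU) _ hmK
  change cond (fixB [Kt m, Ut j]) (eqB [Kt m, Ut j] []) true = true at hc
  rw [hfix, cond_true] at hc
  exact Subtype.ext (eq_of_eqB hr rep_one hc)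

/-- **The point stabiliser is `PSU(3,3)`.** -/
theorem Hs_iso : Nonempty (↥Hs ≃* Cfsg.PSU 3 F9 3) := by
  have e1 : ↥Hs ≃* ↥Θ.range := MonoidHom.ofInjective Θ_injective
  have e2 : ↥Θ.range ≃* ↥rhoU.range := MulEquiv.subgroupCongr Θ_range
  have e3 : SU3 ≃* ↥rhoU.range := MonoidHom.ofInjective rhoU_injective
  have e4 : SU3 ≃* Cfsg.PSU 3 F9 3 := by
    have := QuotientGroup.quotientBot (G := SU3)
    exact this.symm.trans (QuotientGroup.quotientMulEquivOfEq center_SU3.symm)
  exact ⟨(e1.trans e2).trans (e3.symm.trans e4)⟩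

end Cfsg.Agent.Lib.H22.J2U3
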