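import Cfsg.Agent.Lib.H22.J2U3.Data
import Cfsg.Agent.Lib.H22.J2Out.Cent

set_option autoImplicit false
set_option maxRecDepth 100000

/-! # The point stabiliser of the Hall–Janko group is `PSU(3,3)`: the kernel checks -/

namespace Cfsg.Agent.Lib.H22.J2U3

open Cfsg.Agent.Lib.H17.CosetCert Cfsg.Agent.Lib.H17.J2P100 Cfsg.Agent.Lib.H17.J2PGlue
  Cfsg.Agent.Lib.H17.J2Deg100 Cfsg.Agent.Lib.H22.J2Spec Cfsg.Agent.Lib.H22.J2Out
open Cfsg.Agent.Lib.H14 Cfsg.Agent.Lib.H14.U3Tab Cfsg.Agent.Lib.H14.G2Tab

/-- point `i` of the suborbit -/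
def ptN (i : ℕ) : ℕ := lk 7 128 ptT i

/-- the index of the point `p` -/
def ixN (p : ℕ) : ℕ := lk 7 128 ixT p

/-- the word of a list of blocks -/
def flat (bl : List (Fin 28 × Bool)) : List (Fin 12) :=
  (bl.map fun b => cond b.2 (wdB b.1) (wdA b.1)).flatten

/-- the word of tables `ts` acts on the suborbit as the word `W` of helper14's generators -/
noncomputable def actChk (ts : List ℕ) (W : List (Fin 12)) : Bool :=
  (List.range 63).all fun i =>
    Nat.beq (ixN (applyT 7 128 ts (ptN i))) (wp W (Fin.ofNat 63 i)).val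

/-- the table `T` maps the suborbit to itself -/
def closChk (T : ℕ) : Bool :=
  (List.range 63).all fun i =>
    Nat.blt (ixN (lk 7 128 T (ptN i))) 63 &&
      Nat.beq (ptN (ixN (lk 7 128 T (ptN i)))) (lk 7 128 T (ptN i))

theorem pt_ix : (List.range 63).all (fun i => Nat.blt (ptN i) 100 && Nat.beq (ixN (ptN i)) i)
    = true := by decide +kernel

theorem closU : Ul.all (fun u => closChk u.1) = true := by decide +kernel

theorem closK : Kl.all (fun k => closChk k.1) = true := by decide +kernel

theorem UB_length : UB.length = 36 := by decide +kernel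

theorem KB_length : KB.length = 168 := by decide +kernel

theorem certU : (List.range 36).all (fun j => actChk [Ut j] (flat (UB.getD j []))) = true := by
  decide +kernel

theorem certK : (List.range 168).all (fun m => actChk [Kt m] (flat (KB.getD m []))) = true := by
  decide +kernel

theorem tauA_chk : (List.range 28).all (fun k =>
    actChk [Kt (tauAjm.getD k (0, 0)).2, Ut (tauAjm.getD k (0, 0)).1] (wdA (Fin.ofNat 28 k)))
    = true := by decide +kernel

theorem tauB_chk : (List.range 28).all (fun k =>
    actChk [Kt (tauBjm.getD k (0, 0)).2, Ut (tauBjm.getD k (0, 0)).1] (wdB (Fin.ofNat 28 k)))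
    = true := by decide +kernel

theorem tau_jm_lt : (List.range 28).all (fun k =>
    Nat.blt (tauAjm.getD k (0, 0)).1 36 && (Nat.blt (tauAjm.getD k (0, 0)).2 168 &&
      (Nat.blt (tauBjm.getD k (0, 0)).1 36 && Nat.blt (tauBjm.getD k (0, 0)).2 168))) = true := by
  decide +kernel

/-- the table word fixes the three base points of the suborbit -/
noncomputable def fixB (ts : List ℕ) : Bool :=
  baseI.all fun i => Nat.beq (applyT 7 128 ts (ptN i)) (ptN i)

theorem base_chk : Ul.all (fun u => Kl.all (fun k =>
    cond (fixB [k.1, u.1]) (eqB [k.1, u.1] []) true)) = true := by decide +kernel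

theorem baseI_lt : baseI.all (fun i => Nat.blt i 63) = true := by decide +kernel

theorem trans63 : (List.range 63).all (fun i => Ul.any (fun u => Kl.any (fun k =>
    Nat.beq (applyT 7 128 [k.1, u.1] 29) (ptN i)))) = true := by decide +kernel

theorem pt_i29 : ptN i29 = 29 := by decide +kernel

theorem i29_lt : i29 < 63 := by decide +kernel

theorem not29 : Uimg.all (fun p => !Nat.beq p 29) = true := by decide +kernel

end Cfsg.Agent.Lib.H22.J2U3
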