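import Cfsg.Agent.Lib.H22.J2Spec.Main
import Cfsg.Agent.Lib.H14.G2U3Main

set_option autoImplicit false
set_option maxRecDepth 100000

/-! # The point stabiliser of the Hall–Janko group on 100 points is `PSU(3,3)`: the data
(generated) -/

namespace Cfsg.Agent.Lib.H22.J2U3

/-- the points of the suborbit of length 63, packed (entry `i` corresponds to the point `i` of helper14's model) -/
def ptT : ℕ := 0x84b1ba274136a0cca490f66dac620c5cb9020927bf031469cf1197ad780ae2131dab0d2950c394ec4f1a7da438ae51157d545265edd91e

/-- the index of a point in the suborbit (127 outside), packed -/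
def ixT : ℕ := 0xfe97fff4e7bfff63fd911fe7c37f25fddb7208ff9a5859a2bfe905ff19fffa6fe1ffa233fc57f04e3f8d6c057ff0673fb03057fff5013fff4225f7f1c01d1379fffff40f4435fea7f9bfffc7945a17faa665ffff5ce4eff

/-- the coset representatives as products of transvections: blocks (index, `false` for `e01`, `true` for `e02`) -/
def UB : List (List (Fin 28 × Bool)) := [
  [(25,true),(12,false),(2,false),(1,false)],
  [(23,true),(13,false),(7,false),(0,false)],
  [(15,false)],
  [(9,true),(19,false),(3,false),(1,false)],
  [(7,true),(2,false),(1,false)],
  [(22,true),(12,false),(8,false)],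
  [(4,false),(3,false),(1,false)],
  [(25,true),(3,true),(10,false),(2,false)],
  [(24,false),(7,false),(2,false)],
  [(14,true),(5,true),(2,false),(0,false)],
  [(23,true),(11,false)],
  [],
  [(7,false),(4,false),(3,false)],
  [(25,false),(22,false),(2,false)],
  [(23,true),(3,true),(9,false)],
  [(17,false),(14,false),(7,false)],
  [(5,true),(18,false),(10,false)],
  [(18,true),(13,false),(8,false),(0,false)],
  [(15,true)],
  [(10,true),(8,false),(5,false)],
  [(2,true),(10,false),(0,false)],
  [(23,false),(16,false)],
  [(9,true),(21,false),(8,false),(1,false)],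
  [(17,true),(5,false),(1,false)],
  [(22,false),(5,false),(0,false)],
  [(16,true),(9,true),(8,false),(0,false)],
  [(0,true),(8,false),(6,false)],
  [(24,false),(22,false),(2,false),(1,false)],
  [(27,true),(10,false),(2,false)],
  [(12,true),(9,false),(0,false)],
  [(23,true),(13,false),(9,false)],
  [(19,false),(4,false),(2,false),(0,false)],
  [(16,false),(3,false),(0,false)],
  [(5,true),(7,false),(4,false)],
  [(21,false),(11,false)],
  [(25,false),(14,false),(4,false)]]

/-- the two-point stabiliser as products of transvections -/
def KB : List (List (Fin 28 × Bool)) := [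
  [(24,true),(15,true),(3,false)],
  [(13,false),(6,false),(2,false)],
  [(11,true),(7,false),(3,false),(0,false)],
  [(17,false),(5,false)],
  [(13,false),(9,false),(7,false),(1,false)],
  [(8,true),(7,true),(2,false),(1,false)],
  [(10,true),(24,false),(5,false),(0,false)],
  [(14,false),(4,false)],
  [(9,false),(7,false)],
  [(8,true),(10,false),(2,false)],
  [(26,true),(11,false),(1,false),(0,false)],
  [(27,true),(13,false),(3,false),(1,false)],
  [(8,true),(12,false),(2,false)],
  [(17,true),(9,false),(2,false),(0,false)],
  [(15,true),(12,true),(3,false)],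
  [(27,false),(6,false),(2,false),(1,false)],
  [(9,true),(25,false)],
  [(18,false),(12,false),(0,false)],
  [(21,false),(0,false)],
  [(24,true),(3,false),(1,false)],
  [(27,true),(6,false),(2,false)],
  [(15,true),(19,false),(16,false)],
  [(13,true),(3,false),(1,false)],
  [(23,true),(4,false)],
  [(5,true),(14,false),(0,false)],
  [(14,true),(21,false),(5,false)],
  [(22,true),(12,false),(4,false),(0,false)],
  [(17,true),(5,false),(4,false)],
  [(9,true),(16,false)],
  [(26,false),(12,false),(5,false),(4,false)],
  [(24,false),(3,false)],
  [(13,true),(7,false),(4,false),(0,false)],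
  [(10,false),(7,false),(0,false)],
  [(8,true),(10,false),(7,false)],
  [(7,true),(3,true),(5,false),(0,false)],
  [(9,true),(17,false),(7,false),(3,false)],
  [(26,false),(10,false),(0,false)],
  [(9,true),(19,false),(16,false),(0,false)],
  [(15,false),(1,false)],
  [(24,true),(14,false),(4,false),(0,false)],
  [(23,false),(15,false),(1,false),(0,false)],
  [(9,false),(2,false)],
  [(11,true),(25,false),(1,false)],
  [(22,false),(13,false),(6,false)],
  [(20,true),(6,false)],
  [(22,true),(27,false),(23,false)],
  [(11,true),(19,false),(1,false)],
  [(19,true),(1,false)],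
  [(21,true),(5,false),(2,false),(0,false)],
  [(18,false),(7,false),(2,false)],
  [(24,true),(20,false)],
  [(14,true),(18,false),(2,false),(1,false)],
  [(1,true),(16,false),(5,false),(0,false)],
  [(19,true),(16,false),(2,false),(0,false)],
  [(14,true),(5,true)],
  [(22,true),(23,false),(1,false)],
  [(21,false),(5,false),(4,false)],
  [(3,true),(17,false),(0,false)],
  [(20,true),(3,false),(1,false)],
  [(27,false),(25,false),(3,false)],
  [(17,true),(20,false),(1,false),(0,false)],
  [(24,false),(22,false),(3,false),(0,false)],
  [(5,true),(6,false),(0,false)],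
  [(17,true),(12,false)],
  [(24,true),(13,false)],
  [(3,true),(6,false),(0,false)],
  [(17,false),(14,false),(0,false)],
  [(10,false),(8,false)],
  [(11,true),(8,true)],
  [(7,true),(17,false),(5,false),(2,false)],
  [(19,false),(7,false),(3,false),(0,false)],
  [(19,false),(4,false),(1,false)],
  [(15,true),(21,false),(1,false),(0,false)],
  [(17,false),(3,false)],
  [(0,true),(5,false),(4,false)],
  [(14,true),(5,false),(3,false)],
  [(24,true),(27,false),(5,false)],
  [(13,true),(8,false),(1,false)],
  [(23,false),(11,false)],
  [(27,true),(13,false),(6,false)],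
  [(15,true),(26,false)],
  [(2,true),(7,false)],
  [(12,true),(0,false)],
  [(19,true),(20,false),(6,false)],
  [(17,true),(9,false),(5,false),(0,false)],
  [(16,true),(9,true),(10,false)],
  [(8,true),(26,false),(6,false),(1,false)],
  [(17,true),(10,false),(2,false),(1,false)],
  [(11,false),(10,false),(4,false),(1,false)],
  [(8,true),(13,false),(2,false)],
  [(6,true),(8,false),(1,false)],
  [(12,true),(14,false),(2,false),(0,false)],
  [(16,false),(6,false),(2,false),(1,false)],
  [(21,true),(20,false),(5,false),(0,false)],
  [(21,true),(18,false),(0,false)],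
  [(16,true),(11,true)],
  [(21,true),(8,true),(0,false)],
  [(10,true),(2,false)],
  [(22,true),(4,true)],
  [(7,true),(2,false)],
  [(27,false),(21,false),(3,false)],
  [(6,true),(3,false),(1,false)],
  [(17,true),(2,true),(5,false),(0,false)],
  [(15,true),(16,false),(3,false)],
  [(26,true),(12,true),(3,false)],
  [(19,false),(11,false)],
  [(18,true),(6,true),(4,false),(0,false)],
  [(15,true),(11,false),(1,false),(0,false)],
  [(9,true),(26,false),(10,false)],
  [(24,false),(5,false)],
  [(25,true),(27,false),(7,false),(1,false)],
  [(3,true),(8,false),(5,false),(1,false)],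
  [(8,false),(4,false),(1,false)],
  [(8,true),(7,false),(0,false)],
  [(26,false),(21,false),(4,false),(0,false)],
  [(20,true),(7,false),(4,false),(0,false)],
  [(26,true),(23,false),(3,false),(0,false)],
  [(26,false),(12,false),(0,false)],
  [(1,true),(20,false),(6,false)],
  [(25,true),(11,true)],
  [(21,false),(8,false),(4,false)],
  [(11,true),(6,true),(1,false)],
  [(13,true),(14,false),(4,false),(0,false)],
  [(3,true),(5,false)],
  [(11,true),(5,true),(3,false),(0,false)],
  [(10,true),(24,false),(2,false),(0,false)],
  [(9,true),(26,false),(2,false)],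
  [(15,true),(17,false),(3,false),(0,false)],
  [(21,true),(23,false)],
  [(21,false),(7,false),(2,false),(1,false)],
  [(20,false),(12,false),(6,false),(1,false)],
  [(5,true),(3,false)],
  [(20,true),(8,false),(1,false)],
  [(8,true),(24,false),(0,false)],
  [(2,true),(10,false)],
  [(7,true),(10,false)],
  [(22,false),(6,false),(2,false)],
  [(17,true),(18,false),(4,false),(0,false)],
  [(18,false),(10,false),(0,false)],
  [(12,true),(9,false),(2,false),(0,false)],
  [(24,true),(27,false),(3,false)],
  [(20,false),(19,false)],
  [(26,true),(15,true),(1,false)],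
  [(22,true),(27,false),(4,false)],
  [(11,true),(9,false),(8,false)],
  [(19,true),(12,false),(6,false),(1,false)],
  [(27,true),(21,false),(3,false),(0,false)],
  [(21,false),(20,false),(1,false),(0,false)],
  [(9,true),(26,false),(7,false)],
  [(16,true),(9,true),(2,false)],
  [(23,true),(12,true),(13,false),(0,false)],
  [(20,true),(13,false)],
  [(22,true),(13,true),(1,false)],
  [(21,true),(4,false)],
  [(21,false),(12,false)],
  [(17,true),(0,false)],
  [(12,true),(21,false),(4,false)],
  [(16,true),(14,false),(11,false)],
  [(24,true),(6,false)],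
  [(25,true),(15,false),(11,false)],
  [(23,true),(15,false),(4,false),(2,false)],
  [(9,false),(5,false),(2,false),(1,false)],
  [(19,false),(15,false),(1,false),(0,false)],
  [(9,true),(17,false),(8,false),(2,false)],
  [(17,false),(6,false),(0,false)],
  [(16,false),(5,false),(3,false)],
  [(20,false),(1,false)],
  []]

/-- the transvections `tau k e01` as pairs of indices (coset representative, two-point stabiliser) -/
def tauAjm : List (ℕ × ℕ) := [(17,157),(18,38),(13,154),(31,1),(10,22),(31,106),(22,162),(13,12),(4,115),(35,155),(13,35),(29,110),(17,37),(22,40),(21,157),(2,167),(35,2),(17,146),(20,21),(18,105),(22,25),(10,19),(20,97),(10,95),(22,148),(35,98),(2,80),(1,96)]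

/-- the transvections `tau k e02` as pairs of indices -/
def tauBjm : List (ℕ × ℕ) := [(4,134),(20,99),(1,34),(2,50),(20,5),(21,117),(4,136),(0,107),(29,29),(13,53),(4,81),(35,124),(0,72),(1,160),(10,157),(18,167),(21,78),(31,51),(0,83),(29,135),(18,30),(17,33),(1,165),(29,64),(31,71),(2,119),(0,143),(21,65)]

/-- indices of a base inside the suborbit -/
def baseI : List ℕ := [0,1,11]

/-- the index of the point 29 -/
def i29 : ℕ := 58

end Cfsg.Agent.Lib.H22.J2U3
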