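import Cfsg.Agent.Lib.H22.J2U3.Orb

set_option autoImplicit false

/-! # `PSU(3,3)` of index 100 in every group isomorphic to the presented Hall–Janko group -/

namespace Cfsg.Agent.Lib.H22.J2U3

section transport

variable {A B : Type*} [Group A] [Group B]

/-- the map of coset spaces induced by an isomorphism -/
def quotMap (e : A ≃* B) (H : Subgroup A) : A ⧸ H → B ⧸ H.map (e : A →* B) :=
  Quotient.map' e (by
    intro a b hab
    rw [QuotientGroup.leftRel_apply] at hab ⊢
    exact ⟨a⁻¹ * b, hab, by simp⟩)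

theorem quotMap_mk (e : A ≃* B) (H : Subgroup A) (a : A) :
    quotMap e H (QuotientGroup.mk a) = QuotientGroup.mk (e a) := rfl

theorem quotMap_injective (e : A ≃* B) (H : Subgroup A) : Function.Injective (quotMap e H) := by
  intro x y
  induction x using QuotientGroup.induction_on with
  | H a =>
    induction y using QuotientGroup.induction_on with
    | H b =>
      rw [quotMap_mk, quotMap_mk, QuotientGroup.eq, QuotientGroup.eq]
      rintro ⟨c, hc, hce⟩
      have : c = a⁻¹ * b := by
        apply e.injective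
        rw [map_mul, map_inv]
        exact hce
      rw [← this]
      exact hc

/-- orbit lengths of a subgroup on its cosets are preserved by isomorphisms -/
theorem orbit_transport (e : A ≃* B) (H : Subgroup A) (c : A ⧸ H) :
    (MulAction.orbit ↥(H.map (e : A →* B)) (quotMap e H c)).ncard =
      (MulAction.orbit ↥H c).ncard := by
  rw [← Set.ncard_image_of_injective _ (quotMap_injective e H)]
  congr 1
  ext y
  induction c using QuotientGroup.induction_on with
  | H a =>
    constructor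
    · rintro ⟨⟨_, h, hh, rfl⟩, rfl⟩
      exact ⟨(⟨h, hh⟩ : H) • (QuotientGroup.mk a : A ⧸ H), ⟨⟨h, hh⟩, rfl⟩, by
        show quotMap e H (QuotientGroup.mk (h * a)) = QuotientGroup.mk (e h * e a)
        rw [quotMap_mk, map_mul]⟩
    · rintro ⟨_, ⟨h, rfl⟩, rfl⟩
      refine ⟨⟨e h.1, h.1, h.2, rfl⟩, ?_⟩
      show QuotientGroup.mk (e h.1 * e a) = quotMap e H (QuotientGroup.mk (h.1 * a))
      rw [quotMap_mk, map_mul]

/-- transport of the whole statement along an isomorphism -/
theorem stmt_transport (e : A ≃* B)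
    (h : ∃ H : Subgroup A, H.index = 100 ∧
      (∃ (F : Type) (_ : Field F) (_ : Fintype F), Fintype.card F = 9 ∧
        Nonempty (↥H ≃* Cfsg.PSU 3 F 3)) ∧
      ∃ c₁ c₂ : A ⧸ H,
        (MulAction.orbit ↥H c₁).ncard = 36 ∧ (MulAction.orbit ↥H c₂).ncard = 63) :
    ∃ H : Subgroup B, H.index = 100 ∧
      (∃ (F : Type) (_ : Field F) (_ : Fintype F), Fintype.card F = 9 ∧
        Nonempty (↥H ≃* Cfsg.PSU 3 F 3)) ∧
      ∃ c₁ c₂ : B ⧸ H,
        (MulAction.orbit ↥H c₁).ncard = 36 ∧ (MulAction.orbit ↥H c₂).ncard = 63 := by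
  obtain ⟨H, hidx, ⟨F, i1, i2, hF, ⟨iso⟩⟩, c₁, c₂, h1, h2⟩ := h
  refine ⟨H.map (e : A →* B), ?_, ⟨F, i1, i2, hF, ⟨(e.subgroupMap H).symm.trans iso⟩⟩,
    quotMap e H c₁, quotMap e H c₂, ?_, ?_⟩
  · rw [Subgroup.index_map_equiv]
    exact hidx
  · rw [orbit_transport]
    exact h1
  · rw [orbit_transport]
    exact h2

end transport

/-- **Every group isomorphic to the presented Hall–Janko group has a subgroup `PSU(3,3)` of
index 100 with suborbits 36 and 63.** -/
theorem index100_of_equiv {G' : Type*} [Group G'] (e : Cfsg.Agent.Lib.H17.J2Pres.Grp ≃* G') :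
    ∃ H : Subgroup G', H.index = 100 ∧
      (∃ (F : Type) (_ : Field F) (_ : Fintype F), Fintype.card F = 9 ∧
        Nonempty (↥H ≃* Cfsg.PSU 3 F 3)) ∧
      ∃ c₁ c₂ : G' ⧸ H,
        (MulAction.orbit ↥H c₁).ncard = 36 ∧ (MulAction.orbit ↥H c₂).ncard = 63 := by
  have e' : Cfsg.Agent.Lib.H17.J2P100.G ≃* G' := e
  exact stmt_transport e' grp_main

end Cfsg.Agent.Lib.H22.J2U3
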