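import Cfsg.Agent.Lib.H22.J2U3.Act

set_option autoImplicit false
set_option maxRecDepth 100000

/-! # The point stabiliser of the Hall–Janko group: index 100 and suborbits 36, 63 -/

namespace Cfsg.Agent.Lib.H22.J2U3

open Cfsg.Agent.Lib.H17.CosetCert Cfsg.Agent.Lib.H17.J2P100 Cfsg.Agent.Lib.H17.J2PGlue
  Cfsg.Agent.Lib.H17.J2Deg100 Cfsg.Agent.Lib.H22.J2Spec Cfsg.Agent.Lib.H22.J2Out
open Cfsg.Agent.Lib.H14

attribute [local instance] actG

theorem card_Hs_le : Nat.card Hs ≤ 6048 := by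
  let f : Fin 36 × Fin 168 → Hs := fun p =>
    ⟨el (Uw p.1) * el (Kw p.2), Hs.mul_mem (U_mem _ p.1.2) (K_mem _ p.2.2)⟩
  have hf : Function.Surjective f := by
    intro h
    obtain ⟨j, hj, m, hm, hjm⟩ := Hs_cover h.1 h.2
    exact ⟨(⟨j, hj⟩, ⟨m, hm⟩), Subtype.ext hjm.symm⟩
  have h1 := Nat.card_le_card_of_surjective f hf
  rw [Nat.card_prod, Nat.card_fin, Nat.card_fin] at h1
  exact h1

theorem index_le : Hs.index ≤ 100 := by
  rw [Subgroup.index_eq_card]
  have h1 := Nat.card_le_card_of_injective (MulAction.ofQuotientStabilizer G z)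
    (MulAction.injective_ofQuotientStabilizer G z)
  rw [Nat.card_fin] at h1
  exact h1

/-- **The point stabiliser has index 100.** -/
theorem index_Hs : Hs.index = 100 := by
  have h1 := Subgroup.card_mul_index Hs
  rw [Cfsg.Agent.Lib.H17.J2Ord.card_eq] at h1
  have h2 := card_Hs_le
  have h3 := index_le
  by_contra hne
  have h4 : Hs.index ≤ 99 := by omega
  have h5 : Nat.card Hs * Hs.index ≤ 6048 * 99 := Nat.mul_le_mul h2 h4
  omega

/-! ### the orbits of the stabiliser on the cosets -/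

/-- the orbit of a point under the stabiliser -/
def orbS (p : Fin 100) : Set (Fin 100) := {y | ∃ h ∈ Hs, y = φ h p}

theorem orbit_ncard (c : G ⧸ Hs) :
    (MulAction.orbit ↥Hs c).ncard = (orbS (MulAction.ofQuotientStabilizer G z c)).ncard := by
  have hinj := MulAction.injective_ofQuotientStabilizer G z
  rw [← Set.ncard_image_of_injective _ hinj]
  congr 1
  ext y
  constructor
  · rintro ⟨_, ⟨h, rfl⟩, rfl⟩
    refine ⟨h.1, h.2, ?_⟩
    show MulAction.ofQuotientStabilizer G z ((h : G) • c) = _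
    rw [MulAction.ofQuotientStabilizer_smul]
    rfl
  · rintro ⟨h, hh, rfl⟩
    refine ⟨(⟨h, hh⟩ : Hs) • c, ⟨⟨h, hh⟩, rfl⟩, ?_⟩
    show MulAction.ofQuotientStabilizer G z (h • c) = _
    rw [MulAction.ofQuotientStabilizer_smul]
    rfl

/-- the point 36 -/
def p36 : Fin 100 := ⟨36, by norm_num⟩

/-- the point 29 -/
def p29 : Fin 100 := ⟨29, by norm_num⟩

theorem Uimg_getD (j : ℕ) : Uimg.getD j 0 = lk 7 128 (Ut j) 36 := by
  rw [← U_img]
  have : (0 : ℕ) = (fun p : ℕ × List ℕ => lk 7 128 p.1 36) (0, []) := by decide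
  rw [this, List.getD_map]
  rfl

theorem orbS_p36 : orbS p36 = Set.range fun j : Fin 36 => φ (el (Uw j)) p36 := by
  ext y
  constructor
  · rintro ⟨h, hh, rfl⟩
    obtain ⟨j, hj, m, hm, rfl⟩ := Hs_cover h hh
    refine ⟨⟨j, hj⟩, ?_⟩
    show φ (el (Uw j)) p36 = φ (el (Uw j) * el (Kw m)) p36
    rw [map_mul, Equiv.Perm.mul_apply]
    congr 1
    apply Fin.ext
    rw [(rep_K m hm).1.apply_single]
    exact (rep_K m hm).2.2.symm
  · rintro ⟨j, rfl⟩
    exact ⟨el (Uw j), U_mem j j.2, rfl⟩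

theorem ncard_orbS_p36 : (orbS p36).ncard = 36 := by
  rw [orbS_p36, Set.ncard_eq_toFinset_card', Set.toFinset_range, Finset.card_image_of_injective,
    Finset.card_univ, Fintype.card_fin]
  intro a b hab
  have h1 : ((φ (el (Uw a)) p36 : Fin 100) : ℕ) = ((φ (el (Uw b)) p36 : Fin 100) : ℕ) :=
    congrArg Fin.val hab
  rw [(rep_U a a.2).1.apply_single, (rep_U b b.2).1.apply_single] at h1
  have h2 : Uimg.getD a.val 0 = Uimg.getD b.val 0 := by
    rw [Uimg_getD, Uimg_getD]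
    exact h1
  apply Fin.ext
  exact getD_inj Uimg_nodup (by rw [Uimg_length]; exact a.2) (by rw [Uimg_length]; exact b.2) h2

theorem p29_eq : p29 = pt ⟨i29, i29_lt⟩ := by
  apply Fin.ext
  exact pt_i29.symm

theorem U_ok_mem (u : ℕ × List ℕ) (hu : u ∈ Ul) : Rep (el u.2) [u.1] ∧ el u.2 ∈ Hs := by
  have h := List.all_eq_true.mp U_ok u hu
  rw [Bool.and_eq_true] at h
  have hr : Rep (el u.2) [u.1] := (rep_el _).single (wordTab_sound _ _ _ h.1)
  refine ⟨hr, ?_⟩
  rw [mem_Hs]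
  apply Fin.ext
  rw [hr.apply_single, hz0]
  exact Nat.eq_of_beq_eq_true h.2

theorem K_ok_mem (k : ℕ × List ℕ) (hk : k ∈ Kl) : Rep (el k.2) [k.1] ∧ el k.2 ∈ Hs := by
  have h := List.all_eq_true.mp K_ok k hk
  rw [Bool.and_eq_true, Bool.and_eq_true] at h
  have hr : Rep (el k.2) [k.1] := (rep_el _).single (wordTab_sound _ _ _ h.1)
  refine ⟨hr, ?_⟩
  rw [mem_Hs]
  apply Fin.ext
  rw [hr.apply_single, hz0]
  exact Nat.eq_of_beq_eq_true h.2.1

theorem orbS_p29 : orbS p29 = Set.range pt := by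
  ext y
  constructor
  · rintro ⟨h, hh, rfl⟩
    rw [p29_eq]
    obtain ⟨i', hi'⟩ := Hs_closed h hh ⟨i29, i29_lt⟩
    exact ⟨i', hi'.symm⟩
  · rintro ⟨i, rfl⟩
    have h := List.all_eq_true.mp trans63 i.val (List.mem_range.mpr i.2)
    obtain ⟨u, hu, h2⟩ := List.any_eq_true.mp h
    obtain ⟨k, hk, h3⟩ := List.any_eq_true.mp h2
    obtain ⟨hur, huH⟩ := U_ok_mem u hu
    obtain ⟨hkr, hkH⟩ := K_ok_mem k hk
    refine ⟨el u.2 * el k.2, Hs.mul_mem huH hkH, ?_⟩
    apply Fin.ext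
    rw [(hur.mul hkr) p29]
    exact (Nat.eq_of_beq_eq_true h3).symm

theorem ncard_orbS_p29 : (orbS p29).ncard = 63 := by
  rw [orbS_p29, Set.ncard_eq_toFinset_card', Set.toFinset_range,
    Finset.card_image_of_injective _ pt_injective, Finset.card_univ, Fintype.card_fin]

theorem ofQ_mk (g : G) :
    MulAction.ofQuotientStabilizer G z (QuotientGroup.mk g : G ⧸ Hs) = φ g z :=
  rfl

/-- **The stabiliser has orbits of lengths 36 and 63 on the cosets.** -/
theorem orbits_Hs : ∃ c₁ c₂ : G ⧸ Hs,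
    (MulAction.orbit ↥Hs c₁).ncard = 36 ∧ (MulAction.orbit ↥Hs c₂).ncard = 63 := by
  refine ⟨QuotientGroup.mk (el (Tw 1)), QuotientGroup.mk (el (Tw 2)), ?_, ?_⟩
  · rw [orbit_ncard, ofQ_mk]
    have : φ (el (Tw 1)) z = p36 := by
      apply Fin.ext
      rw [(rep_T 1 (by norm_num)).apply_single, hz0]
      exact T_img1
    rw [this]
    exact ncard_orbS_p36
  · rw [orbit_ncard, ofQ_mk]
    have : φ (el (Tw 2)) z = p29 := by
      apply Fin.ext
      rw [(rep_T 2 (by norm_num)).apply_single, hz0]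
      exact T_img2
    rw [this]
    exact ncard_orbS_p29

/-- **The Hall–Janko group (presented form) has a subgroup `PSU(3,3)` of index 100 with
suborbits 36 and 63.** -/
theorem grp_main : ∃ H : Subgroup G, H.index = 100 ∧
    (∃ (F : Type) (_ : Field F) (_ : Fintype F), Fintype.card F = 9 ∧
      Nonempty (↥H ≃* Cfsg.PSU 3 F 3)) ∧
    ∃ c₁ c₂ : G ⧸ H, (MulAction.orbit ↥H c₁).ncard = 36 ∧ (MulAction.orbit ↥H c₂).ncard = 63 :=
  ⟨Hs, index_Hs, ⟨F9, inferInstance, inferInstance, by rw [F9.card_eq], Hs_iso⟩, orbits_Hs⟩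

end Cfsg.Agent.Lib.H22.J2U3
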